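import Cfsg.Agent.Spor.S240.D0

set_option autoImplicit false
set_option maxRecDepth 100000000
set_option Elab.async false

namespace Cfsg.Agent.Spor.S240

theorem ok0 : Net.okb 8 n0 = true := by decide +kernel

theorem ok1 : Net.okb 8 n1 = true := by decide +kernel

theorem ok2 : Net.okb 8 n2 = true := by decide +kernel

theorem rel0 : T.rel 8 [1, 1] 0 8 = true := by decide +kernel

theorem rel1 : T.rel 8 [2, 2] 0 8 = true := by decide +kernel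

theorem rel2 : T.rel 8 [3, 3] 0 8 = true := by decide +kernel

theorem rel3 : T.rel 8 [1, 3, 1, 3] 0 8 = true := by decide +kernel

theorem rel4 : T.rel 8 [2, 3, 2, 3, 2, 3] 0 8 = true := by decide +kernel

theorem rel5 : T.rel 8 [1, 2, 1, 2, 1, 2, 1, 2, 3, 2, 1, 2, 1, 2, 1, 2, 1, 2, 3, 2] 0 8 = true := by decide +kernel

theorem hcov : T.treeCov (ones 240) L 1 = true := by decide +kernel

theorem hg : lall (fun z => band (memL L z) (band (sub (ones 240) (T.let z).cl) (T.closed (ones 240) z))) gs = true := by decide +kernel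

theorem rot1_1 : T.rot 1 [1] (sel (ones 240) ip1 1) = true := by decide +kernel

theorem rot1_1r : band (Rule.ok (2 * 3) EX RL ⟨1 :: [1], [], 3, false⟩) (lall (memL L) [1]) = true := by decide +kernel

theorem rot1_2 : T.rot 1 [3, 1, 3] (sel (ones 240) ip1 2) = true := by decide +kernel

theorem rot1_2r : band (Rule.ok (2 * 3) EX RL ⟨1 :: [3, 1, 3], [], 0, true⟩) (lall (memL L) [3, 1, 3]) = true := by decide +kernel

theorem rot1_3 : T.rot 1 [2, 1, 2, 1, 2, 1, 2, 3, 2, 1, 2, 1, 2, 1, 2, 1, 2, 3, 2] (sel (ones 240) ip1 3) = true := by decide +kernel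

theorem rot1_3r : band (Rule.ok (2 * 3) EX RL ⟨1 :: [2, 1, 2, 1, 2, 1, 2, 3, 2, 1, 2, 1, 2, 1, 2, 1, 2, 3, 2], [], 2, true⟩) (lall (memL L) [2, 1, 2, 1, 2, 1, 2, 3, 2, 1, 2, 1, 2, 1, 2, 1, 2, 3, 2]) = true := by decide +kernel

theorem rot1_4 : T.rot 1 [2, 1, 2, 1, 2, 3, 2, 1, 2, 1, 2, 1, 2, 1, 2, 3, 2, 1, 2] (sel (ones 240) ip1 4) = true := by decide +kernel

theorem rot1_4r : band (Rule.ok (2 * 3) EX RL ⟨1 :: [2, 1, 2, 1, 2, 3, 2, 1, 2, 1, 2, 1, 2, 1, 2, 3, 2, 1, 2], [0, 2], 2, true⟩) (lall (memL L) [2, 1, 2, 1, 2, 3, 2, 1, 2, 1, 2, 1, 2, 1, 2, 3, 2, 1, 2]) = true := by decide +kernel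

theorem rot1_5 : T.rot 1 [2, 1, 2, 3, 2, 1, 2, 1, 2, 1, 2, 1, 2, 3, 2, 1, 2, 1, 2] (sel (ones 240) ip1 5) = true := by decide +kernel

theorem rot1_5r : band (Rule.ok (2 * 3) EX RL ⟨1 :: [2, 1, 2, 3, 2, 1, 2, 1, 2, 1, 2, 1, 2, 3, 2, 1, 2, 1, 2], [0, 2, 0], 2, false⟩) (lall (memL L) [2, 1, 2, 3, 2, 1, 2, 1, 2, 1, 2, 1, 2, 3, 2, 1, 2, 1, 2]) = true := by decide +kernel

theorem rot1_6 : T.rot 1 [2, 3, 2, 1, 2, 1, 2, 1, 2, 1, 2, 3, 2, 1, 2, 1, 2, 1, 2] (sel (ones 240) ip1 6) = true := by decide +kernel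

theorem rot1_6r : band (Rule.ok (2 * 3) EX RL ⟨1 :: [2, 3, 2, 1, 2, 1, 2, 1, 2, 1, 2, 3, 2, 1, 2, 1, 2, 1, 2], [0], 2, false⟩) (lall (memL L) [2, 3, 2, 1, 2, 1, 2, 1, 2, 1, 2, 3, 2, 1, 2, 1, 2, 1, 2]) = true := by decide +kernel

theorem cov1 : T.cover 1 [(sel (ones 240) ip1 1), (sel (ones 240) ip1 2), (sel (ones 240) ip1 3), (sel (ones 240) ip1 4), (sel (ones 240) ip1 5), (sel (ones 240) ip1 6)] = true := by decide +kernel

theorem tl1 : T.treeLt 8 1 = true := by decide +kernel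

theorem rot2_1 : T.rot 2 [2] (sel (ones 240) ip2 1) = true := by decide +kernel

theorem rot2_1r : band (Rule.ok (2 * 3) EX RL ⟨2 :: [2], [], 3, false⟩) (lall (memL L) [2]) = true := by decide +kernel

theorem rot2_2 : T.rot 2 [3, 2, 3, 2, 3] (sel (ones 240) ip2 2) = true := by decide +kernel

theorem rot2_2r : band (Rule.ok (2 * 3) EX RL ⟨2 :: [3, 2, 3, 2, 3], [], 1, true⟩) (lall (memL L) [3, 2, 3, 2, 3]) = true := by decide +kernel

theorem rot2_3 : T.rot 2 [1, 2, 1, 2, 1, 2, 3, 2, 1, 2, 1, 2, 1, 2, 1, 2, 3, 2, 1] (sel (ones 240) ip2 3) = true := by decide +kernel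

theorem rot2_3r : band (Rule.ok (2 * 3) EX RL ⟨2 :: [1, 2, 1, 2, 1, 2, 3, 2, 1, 2, 1, 2, 1, 2, 1, 2, 3, 2, 1], [0], 2, true⟩) (lall (memL L) [1, 2, 1, 2, 1, 2, 3, 2, 1, 2, 1, 2, 1, 2, 1, 2, 3, 2, 1]) = true := by decide +kernel

theorem rot2_4 : T.rot 2 [1, 2, 3, 2, 1, 2, 1, 2, 1, 2, 1, 2, 3, 2, 1, 2, 1, 2, 1] (sel (ones 240) ip2 4) = true := by decide +kernel

theorem rot2_4r : band (Rule.ok (2 * 3) EX RL ⟨2 :: [1, 2, 3, 2, 1, 2, 1, 2, 1, 2, 1, 2, 3, 2, 1, 2, 1, 2, 1], [0, 2], 2, false⟩) (lall (memL L) [1, 2, 3, 2, 1, 2, 1, 2, 1, 2, 1, 2, 3, 2, 1, 2, 1, 2, 1]) = true := by decide +kernel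

theorem rot2_5 : T.rot 2 [3, 2, 1, 2, 1, 2, 1, 2, 1, 2, 3, 2, 1, 2, 1, 2, 1, 2, 1] (sel (ones 240) ip2 5) = true := by decide +kernel

theorem rot2_5r : band (Rule.ok (2 * 3) EX RL ⟨2 :: [3, 2, 1, 2, 1, 2, 1, 2, 1, 2, 3, 2, 1, 2, 1, 2, 1, 2, 1], [], 2, false⟩) (lall (memL L) [3, 2, 1, 2, 1, 2, 1, 2, 1, 2, 3, 2, 1, 2, 1, 2, 1, 2, 1]) = true := by decide +kernel

theorem rot2_6 : T.rot 2 [1, 2, 1, 2, 1, 2, 1, 2, 3, 2, 1, 2, 1, 2, 1, 2, 1, 2, 3] (sel (ones 240) ip2 6) = true := by decide +kernel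

theorem rot2_6r : band (Rule.ok (2 * 3) EX RL ⟨2 :: [1, 2, 1, 2, 1, 2, 1, 2, 3, 2, 1, 2, 1, 2, 1, 2, 1, 2, 3], [2], 2, true⟩) (lall (memL L) [1, 2, 1, 2, 1, 2, 1, 2, 3, 2, 1, 2, 1, 2, 1, 2, 1, 2, 3]) = true := by decide +kernel

theorem cov2 : T.cover 2 [(sel (ones 240) ip2 1), (sel (ones 240) ip2 2), (sel (ones 240) ip2 3), (sel (ones 240) ip2 4), (sel (ones 240) ip2 5), (sel (ones 240) ip2 6)] = true := by decide +kernel

theorem tl2 : T.treeLt 8 2 = true := by decide +kernel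

theorem rot3_1 : T.rot 3 [3] (sel (ones 240) ip3 1) = true := by decide +kernel

theorem rot3_1r : band (Rule.ok (2 * 3) EX RL ⟨3 :: [3], [], 3, false⟩) (lall (memL L) [3]) = true := by decide +kernel

theorem rot3_2 : T.rot 3 [1, 3, 1] (sel (ones 240) ip3 2) = true := by decide +kernel

theorem rot3_2r : band (Rule.ok (2 * 3) EX RL ⟨3 :: [1, 3, 1], [], 0, false⟩) (lall (memL L) [1, 3, 1]) = true := by decide +kernel

theorem rot3_3 : T.rot 3 [2, 3, 2, 3, 2] (sel (ones 240) ip3 3) = true := by decide +kernel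

theorem rot3_3r : band (Rule.ok (2 * 3) EX RL ⟨3 :: [2, 3, 2, 3, 2], [], 1, false⟩) (lall (memL L) [2, 3, 2, 3, 2]) = true := by decide +kernel

theorem cov3 : T.cover 3 [(sel (ones 240) ip3 1), (sel (ones 240) ip3 2), (sel (ones 240) ip3 3)] = true := by decide +kernel

theorem tl3 : T.treeLt 8 3 = true := by decide +kernel

end Cfsg.Agent.Spor.S240
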